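import Groth.Agent.Lib.FlatRel25.Flat
import Groth.Agent.Lib.SheafCoh.ModColim
import Mathlib.Algebra.Category.ModuleCat.Sheaf.Quasicoherent
import Mathlib.CategoryTheory.Sites.CoverLifting

/-!
# Morphisms out of free modules over a localised site
-/

universe u

open CategoryTheory Limits Opposite

namespace GrothLib.LocFac25

variable {C : Type u} [SmallCategory C] {J : GrothendieckTopology C} (O : Sheaf J CommRingCat.{u})

theorem preservesColimits_overMap {X Y : C} (f : X ⟶ Y) :
    PreservesColimitsOfSize.{u, u} (SheafOfModules.overMap.{u} (ModSite.ringSh O) f) := by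
  let G := SheafOfModules.overMap.{u} (ModSite.ringSh O) f
  let T := SheafOfModules.toSheaf.{u} ((ModSite.ringSh O).over X)
  let u' := (Over.map f).sheafPushforwardContinuous AddCommGrpCat.{u} (J.over X) (J.over Y)
  have h1 : PreservesColimitsOfSize.{u, u} T := SheafCoh.preservesColimitsOfSize_toSheaf _
  have h2 : PreservesColimitsOfSize.{u, u} (SheafOfModules.toSheaf.{u} ((ModSite.ringSh O).over Y)) :=
    SheafCoh.preservesColimitsOfSize_toSheaf _
  have h3 : PreservesColimitsOfSize.{u, u} u' :=
    ((Over.map f).sheafAdjunctionCocontinuous AddCommGrpCat.{u} (J.over X) (J.over Y)).leftAdjoint_preservesColimits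
      (F := u') (G := (Over.map f).sheafPushforwardCocontinuous AddCommGrpCat.{u} (J.over X) (J.over Y))
  refine ⟨fun {K} _ => ?_⟩
  have : ReflectsColimitsOfShape K T := reflectsColimitsOfShape_of_reflectsIsomorphisms
  have : PreservesColimitsOfShape K (SheafOfModules.toSheaf.{u} ((ModSite.ringSh O).over Y) ⋙ u') :=
    inferInstance
  have : PreservesColimitsOfShape K (G ⋙ T) :=
    preservesColimitsOfShape_of_natIso
      (show SheafOfModules.toSheaf.{u} ((ModSite.ringSh O).over Y) ⋙ u' ≅ G ⋙ T from Iso.refl _)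
  exact preservesColimitsOfShape_of_reflects_of_preserves G T

variable {O}

section Unit

variable {V : C}

/-- The value of a map out of the unit at `1`, at an arrow to `V`. -/
noncomputable def evAt {M : ModSite.Mod (O.over V)} {W : Over V}
    (α : SheafOfModules.unit _ ⟶ M) : M.val.obj (op W) :=
  (M.unitHomEquiv α).val (op W)

/-- The value of a map out of the unit at `1`. -/
noncomputable abbrev ev {M : ModSite.Mod (O.over V)}
    (α : SheafOfModules.unit _ ⟶ M) : M.val.obj (op (Over.mk (𝟙 V))) := evAt α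

theorem map_evAt {M : ModSite.Mod (O.over V)} (α : SheafOfModules.unit _ ⟶ M) {W W' : Over V} (k : W' ⟶ W) :
    M.val.map k.op (evAt (W := W) α) = evAt (W := W') α :=
  (M.unitHomEquiv α).property k.op

theorem ev_injective {M : ModSite.Mod (O.over V)} {α β : SheafOfModules.unit _ ⟶ M}
    (h : ev α = ev β) : α = β := by
  apply M.unitHomEquiv.injective
  refine Subtype.ext (funext fun W => ?_)
  let k : unop W ⟶ Over.mk (𝟙 V) := Over.mkIdTerminal.from _
  exact (map_evAt α k).symm.trans ((congrArg (fun z => M.val.map k.op z) h).trans (map_evAt β k))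

theorem ev_surjective {M : ModSite.Mod (O.over V)} (m : M.val.obj (op (Over.mk (𝟙 V)))) :
    ∃ α : SheafOfModules.unit _ ⟶ M, ev α = m := by
  let T : ∀ W : Over V, W ⟶ Over.mk (𝟙 V) := fun W => (Over.mkIdTerminal (X := V)).from W
  let sv : ∀ W : (Over V)ᵒᵖ, M.val.obj W := fun W => M.val.presheaf.map (T (unop W)).op m
  have hsv : ∀ ⦃W W' : (Over V)ᵒᵖ⦄ (k : W ⟶ W'), M.val.presheaf.map k (sv W) = sv W' := fun W W' k => by
    have e : (T (unop W)).op ≫ k = (T (unop W')).op :=
      Quiver.Hom.unop_inj ((Over.mkIdTerminal (X := V)).hom_ext _ _)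
    change M.val.presheaf.map k (M.val.presheaf.map (T (unop W)).op m) = M.val.presheaf.map (T (unop W')).op m
    rw [← e, M.val.presheaf.map_comp]
    rfl
  let s : M.sections := PresheafOfModules.sectionsMk sv hsv
  refine ⟨M.unitHomEquiv.symm s, ?_⟩
  have hk : Over.mkIdTerminal.from (Over.mk (𝟙 V)) = 𝟙 (Over.mk (𝟙 V)) := Over.mkIdTerminal.hom_ext _ _
  change (M.unitHomEquiv (M.unitHomEquiv.symm s)).val (op (Over.mk (𝟙 V))) = m
  rw [Equiv.apply_symm_apply]
  change M.val.presheaf.map ((Over.mkIdTerminal (X := V)).from (Over.mk (𝟙 V))).op m = m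
  rw [hk, op_id, M.val.presheaf.map_id]
  rfl

theorem evAt_comp {M : ModSite.Mod (O.over V)} {W : Over V} (c : SheafOfModules.unit _ ⟶ SheafOfModules.unit _)
    (α : SheafOfModules.unit _ ⟶ M) :
    evAt (W := W) (c ≫ α) = (evAt (W := W) c : (ModSite.ringSh (O.over V)).obj.obj (op W)) • evAt (W := W) α := by
  refine Eq.trans ?_ ((α.val.app (op W)).hom.map_smul (evAt (W := W) c : (ModSite.ringSh (O.over V)).obj.obj (op W))
    ((1 : (ModSite.ringSh (O.over V)).obj.obj (op W))))
  refine congrArg (fun r => (α.val.app (op W)).hom r) ?_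
  exact (mul_one (M := (ModSite.ringSh (O.over V)).obj.obj (op W)) _).symm

theorem evAt_sum {M : ModSite.Mod (O.over V)} {W : Over V} {ι : Type*} (s : Finset ι)
    (α : ι → (SheafOfModules.unit _ ⟶ M)) :
    evAt (W := W) (∑ i ∈ s, α i) = ∑ i ∈ s, evAt (W := W) (α i) :=
  map_sum (AddMonoidHom.mk' (fun β : SheafOfModules.unit _ ⟶ M => evAt (W := W) β) fun _ _ => rfl) α s

end Unit

/-- The projections of a finite free module. -/
theorem exists_proj {V : C} (I : Type u) [Fintype I] :
    ∃ pr : I → (SheafOfModules.free (R := ModSite.ringSh (O.over V)) I ⟶ SheafOfModules.unit _),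
      ∑ j, pr j ≫ SheafOfModules.ιFree j = 𝟙 _ := by
  classical
  refine ⟨fun j => Cofan.IsColimit.desc (SheafOfModules.isColimitFreeCofan I)
    (fun i => if i = j then 𝟙 _ else 0), ?_⟩
  refine Cofan.IsColimit.hom_ext (SheafOfModules.isColimitFreeCofan I) _ _ fun i => ?_
  refine (Preadditive.comp_sum ..).trans ?_
  refine Eq.trans ?_ (Category.comp_id _).symm
  refine (Finset.sum_eq_single i (fun j _ hj => ?_) (fun h => absurd (Finset.mem_univ i) h)).trans ?_
  · refine (Cofan.IsColimit.fac_assoc _ _ _ _).trans ?_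
    rw [if_neg (Ne.symm hj), zero_comp]
  · refine (Cofan.IsColimit.fac_assoc _ _ _ _).trans ?_
    rw [if_pos rfl]
    exact Category.id_comp _

end GrothLib.LocFac25
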