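import Groth.Agent.Lib.LocFac25.Basic

/-!
# Local factorisation through free modules
-/

universe u

open CategoryTheory Limits Opposite

namespace GrothLib.LocFac25

open GrothLib.FlatRel25

variable {C : Type u} [SmallCategory C] {J : GrothendieckTopology C} {O : Sheaf J CommRingCat.{u}}

/-- The arrows to `Y` over which `φ` factors through a finite free module. -/
def FacAt {F H : ModSite.Mod O} (φ : F ⟶ H) (V : C) : Prop :=
  ∃ (n : ℕ) (a : (ModSite.restr O V).obj F ⟶ SheafOfModules.free (ULift.{u} (Fin n)))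
    (b : SheafOfModules.free (ULift.{u} (Fin n)) ⟶ (ModSite.restr O V).obj H),
    a ≫ b = (ModSite.restr O V).map φ

theorem evAt_restr {X V : C} (g : V ⟶ X) {M : ModSite.Mod (O.over X)}
    (α : SheafOfModules.unit _ ⟶ M) :
    ev ((SheafOfModules.overMapUnitIso (R := ModSite.ringSh O) g).inv ≫
      (SheafOfModules.overMap (ModSite.ringSh O) g).map α) =
        evAt (W := (Over.map g).obj (Over.mk (𝟙 V))) α := rfl

theorem evAt_mk {M : ModSite.Mod O} {X V : C} (g : V ⟶ X)
    (α : SheafOfModules.unit _ ⟶ (ModSite.restr O X).obj M) :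
    (evAt (W := (Over.map g).obj (Over.mk (𝟙 V))) α : M.val.obj (op V)) =
      (evAt (W := Over.mk g) α : M.val.obj (op V)) := by
  let k : (Over.map g).obj (Over.mk (𝟙 V)) ⟶ Over.mk g :=
    Over.homMk (𝟙 V) (by simp only [Over.map_obj_hom, Over.mk_hom])
  refine (map_evAt α k).symm.trans ?_
  change M.val.presheaf.map (𝟙 V).op (evAt (W := Over.mk g) α : M.val.obj (op V)) = _
  rw [op_id, M.val.presheaf.map_id]
  rfl

theorem res_evAt {M : ModSite.Mod O} {X W V : C} (h : W ⟶ X) (v : V ⟶ W)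
    (α : SheafOfModules.unit _ ⟶ (ModSite.restr O X).obj M) :
    (evAt (W := Over.mk (v ≫ h)) α : M.val.obj (op V)) =
      res M v (evAt (W := Over.mk h) α : M.val.obj (op W)) :=
  (map_evAt α (Over.homMk v : Over.mk (v ≫ h) ⟶ Over.mk h)).symm

theorem facSieve_mem {F H : ModSite.Mod O} (hH : LocRel H) (φ : F ⟶ H) {X Y : C} (h : Y ⟶ X)
    (P : ((ModSite.restr O X).obj F).Presentation) [P.IsFinite] :
    ∃ S ∈ J Y, ∀ ⦃V : C⦄ (v : V ⟶ Y), S v → FacAt φ V := by
  classical
  let I := P.generators.I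
  let B := P.relations.I
  have : Fintype I := Fintype.ofFinite _
  have : Fintype B := Fintype.ofFinite _
  let d : SheafOfModules.free B ⟶ SheafOfModules.free I :=
    (SheafOfModules.freeHomEquiv _).symm P.relations.s ≫ kernel.ι _
  have hd : d ≫ P.generators.π = 0 := by
    change (_ ≫ kernel.ι _) ≫ _ = 0
    rw [Category.assoc, kernel.condition, comp_zero]
  let t : SheafOfModules.free I ⟶ (ModSite.restr O X).obj H :=
    P.generators.π ≫ (ModSite.restr O X).map φ
  have hdt : d ≫ t = 0 := by rw [← Category.assoc, hd, zero_comp]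
  obtain ⟨pr, hpr⟩ := exists_proj (O := O) (V := X) I
  let c : B → I → (SheafOfModules.unit _ ⟶ SheafOfModules.unit _) := fun b j =>
    SheafOfModules.ιFree b ≫ d ≫ pr j
  have hc : ∀ b, ∑ j, c b j ≫ SheafOfModules.ιFree j = SheafOfModules.ιFree b ≫ d := fun b => by
    simp only [c, Category.assoc]
    rw [← Preadditive.comp_sum, ← Preadditive.comp_sum, hpr, Category.comp_id]
  let r : B → I → O.obj.obj (op Y) := fun b j => evAt (W := Over.mk h) (c b j)
  let s : I → ModSite.sect H Y := fun j => evAt (W := Over.mk h) (SheafOfModules.ιFree j ≫ t)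
  have hr : ∀ b, ∑ j, r b j • s j = 0 := fun b => by
    have h0 : ∑ j, c b j ≫ SheafOfModules.ιFree j ≫ t = 0 := by
      simp only [← Category.assoc]
      rw [← Preadditive.sum_comp, hc, Category.assoc, hdt, comp_zero]
    have h1 := congrArg (fun α => evAt (W := Over.mk h) α) h0
    rw [evAt_sum] at h1
    simp only [evAt_comp] at h1
    exact h1
  refine ⟨_, hH.multi r s hr, fun V v hv => ?_⟩
  obtain ⟨l, tt, a, h1, h2⟩ := hv
  let g : V ⟶ X := v ≫ h
  let G : ModSite.Mod (O.over X) ⥤ ModSite.Mod (O.over V) := SheafOfModules.overMap.{u} (ModSite.ringSh O) g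
  have : PreservesColimitsOfSize.{u, u} G := preservesColimits_overMap O g
  have : PreservesColimitsOfSize.{0, 0} G := preservesColimitsOfSize_shrink G
  have : G.Additive := ⟨fun {_ _} {_ _} => rfl⟩
  let η : SheafOfModules.unit (ModSite.ringSh (O.over V)) ≅ G.obj (SheafOfModules.unit (ModSite.ringSh (O.over X))) :=
    (SheafOfModules.overMapUnitIso (R := ModSite.ringSh O) g).symm
  let L := ULift.{u} (Fin l)
  choose A hA using fun (j : I) (k : L) =>
    ev_surjective (O := O) (M := SheafOfModules.unit _) (V := V) (a j k.down)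
  choose T hT using fun k : L => ev_surjective (O := O) (M := (ModSite.restr O V).obj H) (tt k.down)
  let a0 : SheafOfModules.free I ⟶ SheafOfModules.free L :=
    Cofan.IsColimit.desc (SheafOfModules.isColimitFreeCofan I) fun j => ∑ k, A j k ≫ SheafOfModules.ιFree k
  have ha0 : ∀ j, SheafOfModules.ιFree j ≫ a0 = ∑ k, A j k ≫ SheafOfModules.ιFree k := fun j =>
    Cofan.IsColimit.fac _ _ _
  let b0 : SheafOfModules.free L ⟶ (ModSite.restr O V).obj H :=
    Cofan.IsColimit.desc (SheafOfModules.isColimitFreeCofan L) T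
  have hb0 : ∀ k, SheafOfModules.ιFree k ≫ b0 = T k := fun k => Cofan.IsColimit.fac _ _ _
  let eF : G.obj ((ModSite.restr O X).obj F) ≅ (ModSite.restr O V).obj F :=
    (SheafOfModules.overFunctorMap (ModSite.ringSh O) g).app F
  let eH : G.obj ((ModSite.restr O X).obj H) ≅ (ModSite.restr O V).obj H :=
    (SheafOfModules.overFunctorMap (ModSite.ringSh O) g).app H
  have hn : G.map ((ModSite.restr O X).map φ) ≫ eH.hom = eF.hom ≫ (ModSite.restr O V).map φ :=
    (SheafOfModules.overFunctorMap (ModSite.ringSh O) g).hom.naturality φ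
  let m := SheafOfModules.mapFreeIso G I η
  have key1 : a0 ≫ b0 = m.hom ≫ G.map t ≫ eH.hom := by
    refine Cofan.IsColimit.hom_ext (SheafOfModules.isColimitFreeCofan I) _ _ fun j => ev_injective ?_
    change ev (SheafOfModules.ιFree j ≫ a0 ≫ b0) = ev (SheafOfModules.ιFree j ≫ m.hom ≫ G.map t ≫ eH.hom)
    have eL : SheafOfModules.ιFree j ≫ a0 ≫ b0 = ∑ k, A j k ≫ T k :=
      ((Category.assoc _ _ _).symm.trans (congrArg (· ≫ b0) (ha0 j))).trans
        ((Preadditive.sum_comp _ _ _).trans (Finset.sum_congr rfl fun k _ =>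
          (Category.assoc _ _ _).trans (congrArg (A j k ≫ ·) (hb0 k))))
    have eR : SheafOfModules.ιFree j ≫ m.hom ≫ G.map t ≫ eH.hom =
        η.hom ≫ G.map (SheafOfModules.ιFree j ≫ t) ≫ eH.hom :=
      (SheafOfModules.ιFree_mapFreeIso_hom_assoc G I η j _).trans
        (congrArg (η.hom ≫ ·) ((Category.assoc _ _ _).symm.trans (congrArg (· ≫ eH.hom) (G.map_comp _ _).symm)))
    rw [eL, eR]
    refine (evAt_sum _ _).trans ?_
    refine Eq.trans (Finset.sum_congr rfl fun k _ => (evAt_comp _ _).trans (congr_arg₂ (· • ·) (hA j k) (hT k))) ?_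
    refine Eq.trans ((Equiv.ulift.sum_comp fun k : Fin l => a j k • tt k).trans (h1 j).symm) ?_
    refine Eq.trans ?_ (evAt_mk g (SheafOfModules.ιFree j ≫ t)).symm
    exact (res_evAt h v (SheafOfModules.ιFree j ≫ t)).symm
  have key2 : (G.map d ≫ m.inv) ≫ a0 = 0 := by
    let mB := SheafOfModules.mapFreeIso G B η
    rw [← cancel_epi mB.hom, comp_zero]
    refine Cofan.IsColimit.hom_ext (SheafOfModules.isColimitFreeCofan B) _ _ fun b => ?_
    change SheafOfModules.ιFree b ≫ mB.hom ≫ (G.map d ≫ m.inv) ≫ a0 = SheafOfModules.ιFree b ≫ 0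
    rw [comp_zero, SheafOfModules.ιFree_mapFreeIso_hom_assoc, Category.assoc, ← G.map_comp_assoc, ← hc,
      G.map_sum, Preadditive.sum_comp, Preadditive.comp_sum]
    have e2 : ∀ x, G.map (SheafOfModules.ιFree x) ≫ m.inv ≫ a0 =
        ∑ k, η.inv ≫ A x k ≫ SheafOfModules.ιFree k := fun x =>
      ((SheafOfModules.map_ιFree_mapFreeIso_inv_assoc G I η x a0).trans
        (congrArg (η.inv ≫ ·) (ha0 x))).trans (Preadditive.comp_sum _ _ _)
    simp only [G.map_comp, Category.assoc, e2, Preadditive.comp_sum]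
    rw [Finset.sum_comm]
    refine Finset.sum_eq_zero fun k _ => ?_
    simp only [← Category.assoc, ← Preadditive.sum_comp]
    convert zero_comp using 2
    refine ev_injective ?_
    refine (evAt_sum Finset.univ _).trans (Eq.trans ?_ (show (0 : O.obj.obj (op V)) = _ from rfl))
    refine Eq.trans ?_ (h2 b k.down)
    refine Finset.sum_congr rfl fun j _ => ?_
    refine (evAt_comp _ (A j k)).trans ?_
    have e1 : ev ((η.hom ≫ G.map (c b j)) ≫ η.inv) = (resR v (r b j) : O.obj.obj (op V)) :=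
      (evAt_mk (M := SheafOfModules.unit _) g (c b j)).trans (res_evAt (M := SheafOfModules.unit _) h v (c b j))
    exact (congr_arg₂ (fun (x y : O.obj.obj (op V)) => x * y) e1 (hA j k)).trans (mul_comm _ _)
  have hcok := isColimitOfPreserves G P.isColimit
  let cc : Cofork (G.map d) (G.map 0) := Cofork.ofπ (m.inv ≫ a0) (by
    rw [G.map_zero, zero_comp, ← Category.assoc]
    exact key2)
  have hG : IsColimit (Cofork.ofπ (G.map P.generators.π)
      (show G.map d ≫ G.map P.generators.π = G.map 0 ≫ G.map P.generators.π by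
        rw [← G.map_comp, ← G.map_comp, hd, zero_comp])) := isColimitCoforkMapOfIsColimit G _ P.isColimit
  obtain ⟨a1, ha1⟩ := Cofork.IsColimit.desc' hG (m.inv ≫ a0) cc.condition
  refine ⟨l, eF.inv ≫ a1, b0, ?_⟩
  rw [Category.assoc, Iso.inv_comp_eq, ← hn]
  have hepi := epi_of_isColimit_cofork hG
  rw [← cancel_epi (G.map P.generators.π), ← Category.assoc]
  refine (congrArg (· ≫ b0) ha1).trans ?_
  rw [Category.assoc, key1, Iso.inv_hom_id_assoc, G.map_comp, Category.assoc]

theorem exists_cover {F H : ModSite.Mod O} [F.IsFinitePresentation] (hH : LocRel H) (φ : F ⟶ H) (X : C) :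
    ∃ (ι : Type u) (Y : ι → C) (g : ∀ i, Y i ⟶ X), Sieve.ofArrows Y g ∈ J X ∧ ∀ i, FacAt φ (Y i) := by
  obtain ⟨σ, _⟩ := SheafOfModules.IsFinitePresentation.exists_quasicoherentData F
  have H' : ∀ (i : σ.I) (Z : C) (h : Z ⟶ σ.X i), ∃ S ∈ J Z, ∀ ⦃V : C⦄ (v : V ⟶ Z), S v → FacAt φ V :=
    fun i Z h => @facSieve_mem _ _ _ _ F H hH φ _ Z h (σ.presentation i)
      (SheafOfModules.QuasicoherentData.IsFinitePresentation.isFinite_presentation i)
  choose S hS hfac using H'
  let Y : (Σ V : C, {g : V ⟶ X // FacAt φ V}) → C := fun i => i.1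
  refine ⟨Σ V : C, {g : V ⟶ X // FacAt φ V}, Y, fun i => i.2.1, ?_, fun i => i.2.2⟩
  refine J.transitive (σ.coversTop X) _ fun Z f hf => ?_
  obtain ⟨i, ⟨h⟩⟩ := hf
  refine J.superset_covering (fun V v hv => ?_) (hS i Z h)
  exact Sieve.ofArrows_mk Y (fun i => i.2.1) ⟨V, v ≫ f, hfac i Z h v hv⟩

end GrothLib.LocFac25
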